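/-
The derived direct image of a single étale sheaf, and derived adjunctions.
-/
import Groth.Agent.EtBcKilledLib.Comp
import Groth.Agent.SpSeqLib.Acyclic
import Groth.Agent.DerLib.KInjEnough
import Groth.Agent.DerLib.ExactHomology
import Groth.Prelude.Def_EtBCD

set_option autoImplicit false
set_option linter.all false
set_option backward.isDefEq.respectTransparency false
set_option backward.isDefEq.respectTransparency.types false
set_option synthInstance.maxHeartbeats 400000
set_option maxHeartbeats 1600000

universe u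

open CategoryTheory CategoryTheory.Limits AlgebraicGeometry Opposite

attribute [local instance] HasDerivedCategory.standard

noncomputable section

namespace EtBcDLib

attribute [local instance] EtSliceLib.pullExact

theorem enough (X : Scheme.{u}) : Groth.Agent.DerLib.KInjDerived.EnoughKInj (EtCoh.Ab X) :=
  Groth.Agent.DerLib.KInjDerived.enoughKInj _

section Uniq

variable {C D : Type*} [Category C] [Category D] {G : C ⥤ D} {R : D ⥤ C}

/-- Transposes under two adjunctions differ by an automorphism of the left adjoint. -/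
theorem exists_symm_eq (adj adj' : G ⊣ R) (A : C) :
    ∃ e : G.obj A ≅ G.obj A, ∀ {B : D} (φ : A ⟶ R.obj B),
      (adj.homEquiv A B).symm φ = e.hom ≫ (adj'.homEquiv A B).symm φ := by
  refine ⟨(adj.leftAdjointUniq adj').app A, fun {B} φ => ?_⟩
  rw [Adjunction.homEquiv_counit, Adjunction.homEquiv_counit, Iso.app_hom]
  erw [reassoc_of% ((adj.leftAdjointUniq adj').hom.naturality φ).symm]
  rw [Adjunction.leftAdjointUniq_hom_app_counit]

end Uniq

variable {X S : Scheme.{u}} (f : X ⟶ S)

/-- The injective resolution of a sheaf in the derived category. -/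
abbrev resQh {F : EtCoh.Ab X} (R : InjectiveResolution F) : DCoh.DEt X :=
  DerivedCategory.Qh.obj ((HomotopyCategory.quotient (EtCoh.Ab X) (ComplexShape.up ℤ)).obj R.cochainComplex)

/-- A sheaf is its resolution in the derived category. -/
def singleIso {F : EtCoh.Ab X} (R : InjectiveResolution F) : EtBC.single X F ≅ resQh R :=
  haveI : IsIso (DerivedCategory.Q.map R.ι') := (DerivedCategory.isIso_Q_map_iff_quasiIso (EtCoh.Ab X) R.ι').2 inferInstance
  (DerivedCategory.singleFunctorIsoCompQ (EtCoh.Ab X) 0).app F ≪≫ asIso (DerivedCategory.Q.map R.ι') ≪≫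
    ((DerivedCategory.quotientCompQhIso (EtCoh.Ab X)).app R.cochainComplex).symm

theorem isKInjective_res {F : EtCoh.Ab X} (R : InjectiveResolution F) : R.cochainComplex.IsKInjective :=
  CochainComplex.isKInjective_of_injective R.cochainComplex 0

theorem isIso_unit_res [DCoh.HasRpushEt X f] {F : EtCoh.Ab X} (R : InjectiveResolution F) :
    IsIso (((DCoh.pushEtKh X f).totalRightDerivedUnit DerivedCategory.Qh
      (HomotopyCategory.quasiIso (EtCoh.Ab X) (ComplexShape.up ℤ))).app
        ((HomotopyCategory.quotient (EtCoh.Ab X) (ComplexShape.up ℤ)).obj R.cochainComplex)) :=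
  haveI := isKInjective_res R
  Groth.Agent.DerLib.KInjDerived.isIso_app (DCoh.RpushEt X f) _ (enough X) R.cochainComplex

/-- The cohomology sheaves of the derived direct image of a sheaf. -/
theorem nonempty_homology_rpush_single [DCoh.HasRpushEt X f] (F : EtCoh.Ab X) (i : ℕ) :
    Nonempty ((DerivedCategory.homologyFunctor (EtCoh.Ab S) (i : ℤ)).obj
      ((DCoh.RpushEt X f).obj (EtBC.single X F)) ≅ (EtCoh.Rpush f i).obj F) := by
  let R := injectiveResolution F
  haveI := isIso_unit_res f R
  exact ⟨(DerivedCategory.homologyFunctor (EtCoh.Ab S) (i : ℤ)).mapIso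
      ((DCoh.RpushEt X f).mapIso (singleIso R) ≪≫
        (asIso (((DCoh.pushEtKh X f).totalRightDerivedUnit DerivedCategory.Qh
          (HomotopyCategory.quasiIso (EtCoh.Ab X) (ComplexShape.up ℤ))).app
            ((HomotopyCategory.quotient (EtCoh.Ab X) (ComplexShape.up ℤ)).obj R.cochainComplex))).symm ≪≫
        DerivedCategory.Qh.mapIso (((EtCoh.push f).mapHomotopyCategoryFactors (ComplexShape.up ℤ)).app
          R.cochainComplex) ≪≫
        (DerivedCategory.quotientCompQhIso (EtCoh.Ab S)).app _) ≪≫
    (DerivedCategory.homologyFunctorFactors (EtCoh.Ab S) (i : ℤ)).app _ ≪≫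
    HomologicalComplex.homologyMapIso (SpSeqLib.mapExtendNatIso (EtCoh.push f) R.cocomplex) (i : ℤ) ≪≫
    HomologicalComplex.extendHomologyIso (((EtCoh.push f).mapHomologicalComplex _).obj R.cocomplex)
      ComplexShape.embeddingUpNat (j := i) (j' := (i : ℤ)) rfl ≪≫
    (R.isoRightDerivedObj (EtCoh.push f) i).symm⟩

/-- The cohomology sheaves of an inverse image in the derived category. -/
theorem nonempty_homology_pullD {Y : Scheme.{u}} (g : X ⟶ Y) (K : DCoh.DEt Y) (i : ℤ) :
    Nonempty ((DerivedCategory.homologyFunctor (EtCoh.Ab X) i).obj ((EtBC.pullD g).obj K) ≅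
      (EtCoh.pull g).obj ((DerivedCategory.homologyFunctor (EtCoh.Ab Y) i).obj K)) :=
  haveI : PreservesFiniteColimits (EtCoh.pull g) := EtCore.pull_preservesFiniteColimits g
  ⟨(Groth.Agent.DerLib.ExactHomology.homologyIso (EtCoh.pull g) i).app K⟩

/-- The inverse image of a sheaf in the derived category. -/
theorem nonempty_pullD_single {Y : Scheme.{u}} (g : X ⟶ Y) (F : EtCoh.Ab Y) :
    Nonempty ((EtBC.pullD g).obj (EtBC.single Y F) ≅ EtBC.single X ((EtCoh.pull g).obj F)) :=
  haveI : PreservesFiniteColimits (EtCoh.pull g) := EtCore.pull_preservesFiniteColimits g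
  ⟨((EtCoh.pull g).mapDerivedCategorySingleFunctor 0).app F⟩

end EtBcDLib
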