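/-
The base change morphism in the derived category on a single sheaf: low degree consequences.
-/
import Groth.Agent.EtBcDLib.Basic

set_option autoImplicit false
set_option linter.all false
set_option backward.isDefEq.respectTransparency false
set_option backward.isDefEq.respectTransparency.types false
set_option synthInstance.maxHeartbeats 400000
set_option maxHeartbeats 1600000

universe u

open CategoryTheory CategoryTheory.Limits AlgebraicGeometry Opposite

attribute [local instance] HasDerivedCategory.standard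

noncomputable section

namespace EtBcDLib

attribute [local instance] EtSliceLib.pullExact

variable {X S X' S' : Scheme.{u}} (f : X ⟶ S) (g : S' ⟶ S) (f' : X' ⟶ S') (g' : X' ⟶ X)
  (w : g' ≫ f = f' ≫ g) [DCoh.HasRpushEt X f] [DCoh.HasRpushEt X' f'] [DCoh.HasRpushEt S' g]

theorem nonempty_homology_src (F : EtCoh.Ab X) (i : ℕ) :
    Nonempty ((DerivedCategory.homologyFunctor (EtCoh.Ab S') (i : ℤ)).obj
      ((EtBC.pullD g).obj ((DCoh.RpushEt X f).obj (EtBC.single X F))) ≅
        (EtCoh.pull g).obj ((EtCoh.Rpush f i).obj F)) := by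
  obtain ⟨a⟩ := nonempty_homology_pullD g ((DCoh.RpushEt X f).obj (EtBC.single X F)) (i : ℤ)
  obtain ⟨b⟩ := nonempty_homology_rpush_single f F i
  exact ⟨a ≪≫ (EtCoh.pull g).mapIso b⟩

theorem nonempty_homology_tgt (F : EtCoh.Ab X) (i : ℕ) :
    Nonempty ((DerivedCategory.homologyFunctor (EtCoh.Ab S') (i : ℤ)).obj
      ((DCoh.RpushEt X' f').obj ((EtBC.pullD g').obj (EtBC.single X F))) ≅
        (EtCoh.Rpush f' i).obj ((EtCoh.pull g').obj F)) := by
  obtain ⟨a⟩ := nonempty_pullD_single g' F
  obtain ⟨b⟩ := nonempty_homology_rpush_single f' ((EtCoh.pull g').obj F) i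
  exact ⟨(DerivedCategory.homologyFunctor (EtCoh.Ab S') (i : ℤ)).mapIso ((DCoh.RpushEt X' f').mapIso a) ≪≫ b⟩

/-- An isomorphism in cohomology gives an isomorphism of the sheaves it compares. -/
theorem nonempty_iso_of_isIso (adj : EtBC.pullD g ⊣ DCoh.RpushEt S' g) (F : EtCoh.Ab X) (i : ℕ)
    (h : IsIso ((DerivedCategory.homologyFunctor (EtCoh.Ab S') (i : ℤ)).map
      (EtBC.bcMap f g f' g' w adj (EtBC.single X F)))) :
    Nonempty ((EtCoh.pull g).obj ((EtCoh.Rpush f i).obj F) ≅ (EtCoh.Rpush f' i).obj ((EtCoh.pull g').obj F)) := by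
  obtain ⟨a⟩ := nonempty_homology_src f g F i
  obtain ⟨b⟩ := nonempty_homology_tgt f' g' F i
  haveI := h
  exact ⟨a.symm ≪≫ asIso ((DerivedCategory.homologyFunctor (EtCoh.Ab S') (i : ℤ)).map
    (EtBC.bcMap f g f' g' w adj (EtBC.single X F))) ≪≫ b⟩

theorem bcMap_natural (adj : EtBC.pullD g ⊣ DCoh.RpushEt S' g) {K K' : DCoh.DEt X} (a : K ⟶ K') :
    (EtBC.pullD g).map ((DCoh.RpushEt X f).map a) ≫ EtBC.bcMap f g f' g' w adj K' =
      EtBC.bcMap f g f' g' w adj K ≫ (DCoh.RpushEt X' f').map ((EtBC.pullD g').map a) := by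
  dsimp only [EtBC.bcMap]
  rw [← Adjunction.homEquiv_naturality_left_symm, ← Adjunction.homEquiv_naturality_right_symm]
  exact congrArg _ ((EtBC.bcAdj f g f' g' w).naturality a)

/-- The canonical derived adjunction. -/
def canAdj : EtBC.pullD g ⊣ DCoh.RpushEt S' g :=
  haveI : PreservesFiniteColimits (EtCoh.pull g) := EtCore.pull_preservesFiniteColimits g
  Groth.Agent.DerLib.KInjDerived.derivedAdj (EtCoh.pullPushAdj g) (DCoh.RpushEt S' g)
    ((DCoh.pushEtKh S' g).totalRightDerivedUnit DerivedCategory.Qh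
      (HomotopyCategory.quasiIso (EtCoh.Ab S') (ComplexShape.up ℤ))) (enough S')

/-- Base change in degree zero on a complex, term by term. -/
def kappa (I : CochainComplex (EtCoh.Ab X) ℤ) :
    ((EtCoh.pull g).mapHomologicalComplex (ComplexShape.up ℤ)).obj
        (((EtCoh.push f).mapHomologicalComplex _).obj I) ⟶
      ((EtCoh.push f').mapHomologicalComplex _).obj (((EtCoh.pull g').mapHomologicalComplex _).obj I) where
  f n := EtCoh.baseChange0 f g f' g' w (I.X n)
  comm' i j _ := (EtBcKilledLib.bc0_natural f g f' g' w (I.d i j)).symm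

theorem kappa_eq (I : CochainComplex (EtCoh.Ab X) ℤ) :
    ((EtCoh.pull g).mapHomotopyCategory (ComplexShape.up ℤ)).map
        ((EtBC.pushToPushPullH f g f' g' w).app
          ((HomotopyCategory.quotient (EtCoh.Ab X) (ComplexShape.up ℤ)).obj I)) ≫
      (Groth.Agent.DerLib.KInjDerived.mapHomotopyCategoryAdj (EtCoh.pullPushAdj g) (ComplexShape.up ℤ)).counit.app
        (((EtCoh.push f').mapHomotopyCategory (ComplexShape.up ℤ)).obj
          (((EtCoh.pull g').mapHomotopyCategory (ComplexShape.up ℤ)).obj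
            ((HomotopyCategory.quotient (EtCoh.Ab X) (ComplexShape.up ℤ)).obj I))) =
      (HomotopyCategory.quotient (EtCoh.Ab S') (ComplexShape.up ℤ)).map (kappa f g f' g' w I) := by
  let ψ : ((EtCoh.push f).mapHomologicalComplex (ComplexShape.up ℤ)).obj I ⟶
      ((EtCoh.push g).mapHomologicalComplex _).obj (((EtCoh.push f').mapHomologicalComplex _).obj
        (((EtCoh.pull g').mapHomologicalComplex _).obj I)) :=
    { f := fun n => (EtBC.pushToPushPull f g f' g' w).app (I.X n)
      comm' := fun i j _ => ((EtBC.pushToPushPull f g f' g' w).naturality (I.d i j)).symm }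
  have hP : (EtBC.pushToPushPullH f g f' g' w).app
      ((HomotopyCategory.quotient (EtCoh.Ab X) (ComplexShape.up ℤ)).obj I) =
        (HomotopyCategory.quotient (EtCoh.Ab S) (ComplexShape.up ℤ)).map ψ := by
    simp only [EtBC.pushToPushPullH, NatTrans.comp_app, Functor.whiskerLeft_app]
    dsimp [Functor.mapHomotopyCategoryCompIso, NatTrans.mapHomotopyCategory]
    erw [← Functor.map_comp]
    congr 1
  rw [hP]
  show (HomotopyCategory.quotient _ _).map (((EtCoh.pull g).mapHomologicalComplex _).map ψ) ≫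
    (HomotopyCategory.quotient _ _).map _ = _
  rw [← Functor.map_comp]
  refine congrArg (HomotopyCategory.quotient _ _).map ?_
  refine HomologicalComplex.hom_ext _ _ fun n => ?_
  show (EtCoh.pull g).map ((EtBC.pushToPushPull f g f' g' w).app (I.X n)) ≫ (EtCoh.pullPushAdj g).counit.app _ = _
  refine (Adjunction.homEquiv_counit (EtCoh.pullPushAdj g) _ _ _).symm.trans ?_
  show _ = EtCoh.baseChange0 f g f' g' w (I.X n)
  dsimp only [EtCoh.baseChange0]
  refine congrArg _ ?_
  simp [EtBC.pushToPushPull]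

/-- The transpose of the unit computation. -/
theorem exists_factor (adj : EtBC.pullD g ⊣ DCoh.RpushEt S' g) {F : EtCoh.Ab X} (R : InjectiveResolution F) :
    ∃ (P : DCoh.DEt S') (a : P ⟶ (EtBC.pullD g).obj ((DCoh.RpushEt X f).obj (resQh R))) (_ : IsIso a)
      (b : P ⟶ DerivedCategory.Qh.obj ((HomotopyCategory.quotient (EtCoh.Ab S') (ComplexShape.up ℤ)).obj
        (((EtCoh.pull g).mapHomologicalComplex _).obj
          (((EtCoh.push f).mapHomologicalComplex _).obj R.cochainComplex)))) (_ : IsIso b)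
      (T : DerivedCategory.Qh.obj ((HomotopyCategory.quotient (EtCoh.Ab S') (ComplexShape.up ℤ)).obj
          (((EtCoh.push f').mapHomologicalComplex _).obj
            (((EtCoh.pull g').mapHomologicalComplex _).obj R.cochainComplex))) ⟶
        (DCoh.RpushEt X' f').obj ((EtBC.pullD g').obj (resQh R))),
      a ≫ EtBC.bcMap f g f' g' w adj (resQh R) =
        b ≫ DerivedCategory.Qh.map ((HomotopyCategory.quotient (EtCoh.Ab S') (ComplexShape.up ℤ)).map
          (kappa f g f' g' w R.cochainComplex)) ≫ T := by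
  haveI : PreservesFiniteColimits (EtCoh.pull g) := EtCore.pull_preservesFiniteColimits g
  haveI : PreservesFiniteColimits (EtCoh.pull g') := EtCore.pull_preservesFiniteColimits g'
  haveI := isIso_unit_res f R
  let qI := (HomotopyCategory.quotient (EtCoh.Ab X) (ComplexShape.up ℤ)).obj R.cochainComplex
  let uf := (DCoh.pushEtKh X f).totalRightDerivedUnit DerivedCategory.Qh
    (HomotopyCategory.quasiIso (EtCoh.Ab X) (ComplexShape.up ℤ))
  let uf' := (DCoh.pushEtKh X' f').totalRightDerivedUnit DerivedCategory.Qh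
    (HomotopyCategory.quasiIso (EtCoh.Ab X') (ComplexShape.up ℤ))
  let ug := (DCoh.pushEtKh S' g).totalRightDerivedUnit DerivedCategory.Qh
    (HomotopyCategory.quasiIso (EtCoh.Ab S') (ComplexShape.up ℤ))
  let B := ((EtCoh.pull g').mapHomotopyCategory (ComplexShape.up ℤ)).obj qI
  let A := ((EtCoh.push f').mapHomotopyCategory (ComplexShape.up ℤ)).obj B
  obtain ⟨e, he⟩ := exists_symm_eq adj (canAdj g) (DerivedCategory.Qh.obj
    (((EtCoh.push f).mapHomotopyCategory (ComplexShape.up ℤ)).obj qI))
  let T : DerivedCategory.Qh.obj A ⟶ (DCoh.RpushEt X' f').obj ((EtBC.pullD g').obj (resQh R)) :=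
    uf'.app B ≫ (DCoh.RpushEt X' f').map ((EtCoh.pull g').mapDerivedCategoryFactorsh.inv.app qI)
  let al := (EtCoh.pull g).mapDerivedCategoryFactorsh.hom
  refine ⟨_, (EtBC.pullD g).map (uf.app qI), inferInstance,
    e.hom ≫ al.app (((EtCoh.push f).mapHomotopyCategory (ComplexShape.up ℤ)).obj qI), inferInstance, T, ?_⟩
  have hd : uf.app qI ≫ (EtBC.bcAdj f g f' g' w).app (resQh R) = (EtBC.bcUnit f g f' g' w).app qI :=
    Functor.rightDerived_fac_app _ uf (HomotopyCategory.quasiIso (EtCoh.Ab X) (ComplexShape.up ℤ)) _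
      (EtBC.bcUnit f g f' g' w) qI
  have hu : (EtBC.bcUnit f g f' g' w).app qI =
      (DerivedCategory.Qh.map ((EtBC.pushToPushPullH f g f' g' w).app qI) ≫ ug.app A) ≫
        (DCoh.RpushEt S' g).map T := by
    simp [EtBC.bcUnit, T, ug, uf', A, B]
  have hε : (EtBC.pullD g).map (ug.app A) ≫ (canAdj g).counit.app (DerivedCategory.Qh.obj A) =
      al.app (((EtCoh.push g).mapHomotopyCategory (ComplexShape.up ℤ)).obj A) ≫
        DerivedCategory.Qh.map
          ((Groth.Agent.DerLib.KInjDerived.mapHomotopyCategoryAdj (EtCoh.pullPushAdj g)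
            (ComplexShape.up ℤ)).counit.app A) :=
    haveI := Groth.Agent.DerLib.KInjDerived.isRightDerived_comp (G := EtCoh.pull g) (DCoh.RpushEt S' g) ug (enough S')
    (Groth.Agent.DerLib.KInjDerived.mapHomotopyCategoryAdj (EtCoh.pullPushAdj g)
      (ComplexShape.up ℤ)).derivedε_fac_app (HomotopyCategory.quasiIso (EtCoh.Ab S') (ComplexShape.up ℤ))
      al ug A
  dsimp only [EtBC.bcMap]
  rw [← Adjunction.homEquiv_naturality_left_symm, hd, hu]
  refine (he _).trans ?_
  refine Eq.trans ?_ (Category.assoc e.hom (al.app _) _).symm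
  refine congrArg (e.hom ≫ ·) ?_
  erw [Adjunction.homEquiv_naturality_right_symm, Adjunction.homEquiv_counit, Functor.map_comp]
  rw [Category.assoc, Category.assoc]
  erw [reassoc_of% hε]
  erw [reassoc_of% (al.naturality ((EtBC.pushToPushPullH f g f' g' w).app qI))]
  refine congrArg (al.app _ ≫ ·) ?_
  erw [← Functor.map_comp_assoc, kappa_eq f g f' g' w R.cochainComplex]

/-- A monomorphism in degree zero gives a monomorphic base change morphism of sheaves. -/
theorem mono_bc0_of_mono (adj : EtBC.pullD g ⊣ DCoh.RpushEt S' g) (F : EtCoh.Ab X)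
    (h : Mono ((DerivedCategory.homologyFunctor (EtCoh.Ab S') 0).map
      (EtBC.bcMap f g f' g' w adj (EtBC.single X F)))) :
    Mono (EtCoh.baseChange0 f g f' g' w F) := by
  let R := injectiveResolution F
  let H := DerivedCategory.homologyFunctor (EtCoh.Ab S') 0
  have h1 : Mono (H.map (EtBC.bcMap f g f' g' w adj (resQh R))) := by
    have e : (EtBC.pullD g).map ((DCoh.RpushEt X f).map (singleIso R).inv) ≫
        EtBC.bcMap f g f' g' w adj (EtBC.single X F) =
      EtBC.bcMap f g f' g' w adj (resQh R) ≫ (DCoh.RpushEt X' f').map ((EtBC.pullD g').map (singleIso R).inv) :=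
      bcMap_natural f g f' g' w adj (singleIso R).inv
    haveI := h
    haveI : Mono (H.map (EtBC.bcMap f g f' g' w adj (resQh R)) ≫
        H.map ((DCoh.RpushEt X' f').map ((EtBC.pullD g').map (singleIso R).inv))) := by
      rw [← Functor.map_comp, ← e, Functor.map_comp]
      infer_instance
    exact mono_of_mono _ (H.map ((DCoh.RpushEt X' f').map ((EtBC.pullD g').map (singleIso R).inv)))
  obtain ⟨P, a, ha, b, hb, T, e⟩ := exists_factor f g f' g' w adj R
  let κ := kappa f g f' g' w R.cochainComplex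
  have h2 : Mono (H.map (DerivedCategory.Qh.map
      ((HomotopyCategory.quotient (EtCoh.Ab S') (ComplexShape.up ℤ)).map κ))) := by
    haveI := h1
    have e' : inv b ≫ a ≫ EtBC.bcMap f g f' g' w adj (resQh R) = DerivedCategory.Qh.map
        ((HomotopyCategory.quotient (EtCoh.Ab S') (ComplexShape.up ℤ)).map κ) ≫ T := by
      rw [e, IsIso.inv_hom_id_assoc]
    haveI : Mono (H.map (DerivedCategory.Qh.map
        ((HomotopyCategory.quotient (EtCoh.Ab S') (ComplexShape.up ℤ)).map κ)) ≫ H.map T) := by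
      rw [← Functor.map_comp, ← e', Functor.map_comp, Functor.map_comp]
      infer_instance
    exact mono_of_mono _ (H.map T)
  have h3 : Mono (HomologicalComplex.homologyMap κ 0) := by
    let Φ : ∀ K : CochainComplex (EtCoh.Ab S') ℤ,
        H.obj (DerivedCategory.Qh.obj ((HomotopyCategory.quotient (EtCoh.Ab S') (ComplexShape.up ℤ)).obj K)) ≅
          K.homology 0 := fun K =>
      (DerivedCategory.homologyFunctorFactorsh (EtCoh.Ab S') 0).app _ ≪≫
        (HomotopyCategory.homologyFunctorFactors (EtCoh.Ab S') (ComplexShape.up ℤ) 0).app K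
    have e3 : H.map (DerivedCategory.Qh.map
          ((HomotopyCategory.quotient (EtCoh.Ab S') (ComplexShape.up ℤ)).map κ)) ≫ (Φ _).hom =
        (Φ _).hom ≫ HomologicalComplex.homologyMap κ 0 := by
      show _ ≫ (DerivedCategory.homologyFunctorFactorsh (EtCoh.Ab S') 0).hom.app _ ≫
          (HomotopyCategory.homologyFunctorFactors (EtCoh.Ab S') (ComplexShape.up ℤ) 0).hom.app _ =
        ((DerivedCategory.homologyFunctorFactorsh (EtCoh.Ab S') 0).hom.app _ ≫
          (HomotopyCategory.homologyFunctorFactors (EtCoh.Ab S') (ComplexShape.up ℤ) 0).hom.app _) ≫ _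
      refine ((DerivedCategory.homologyFunctorFactorsh (EtCoh.Ab S') 0).hom.naturality_assoc
        ((HomotopyCategory.quotient (EtCoh.Ab S') (ComplexShape.up ℤ)).map κ) _).trans ?_
      refine Eq.trans ?_ (Category.assoc _ _ _).symm
      exact congrArg (_ ≫ ·) ((HomotopyCategory.homologyFunctorFactors (EtCoh.Ab S')
        (ComplexShape.up ℤ) 0).hom.naturality κ)
    haveI := h2
    haveI : Mono ((Φ _).hom ≫ HomologicalComplex.homologyMap κ 0) := by
      rw [← e3]
      infer_instance
    rw [show HomologicalComplex.homologyMap κ 0 = (Φ _).inv ≫ (Φ _).hom ≫ HomologicalComplex.homologyMap κ 0 from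
      (Iso.inv_hom_id_assoc _ _).symm]
    infer_instance
  let I := R.cochainComplex
  let ι0 : F ⟶ I.X 0 := R.ι.f 0 ≫ (R.cochainComplexXIso 0 0 rfl).inv
  have hι0 : ι0 ≫ I.d 0 1 = 0 := by
    simp only [ι0, I, R.cochainComplex_d 0 1 0 1 rfl rfl, Category.assoc, Iso.inv_hom_id_assoc]
    rw [← Category.assoc, R.ι_f_zero_comp_complex_d, zero_comp]
  haveI : Mono ι0 := inferInstanceAs (Mono (R.ι.f 0 ≫ (R.cochainComplexXIso 0 0 rfl).inv))
  haveI : PreservesFiniteLimits (EtCoh.push f) :=
    haveI : PreservesLimitsOfSize.{0, 0} (EtCoh.push f) := (EtCoh.pullPushAdj f).rightAdjoint_preservesLimits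
    PreservesLimitsOfSize.preservesFiniteLimits _
  haveI : Mono ((EtCoh.push f).map ι0) := CategoryTheory.preserves_mono_of_preservesLimit _ _
  haveI : Mono ((EtCoh.pull g).map ((EtCoh.push f).map ι0)) := CategoryTheory.preserves_mono_of_preservesLimit _ _
  let K := ((EtCoh.pull g).mapHomologicalComplex (ComplexShape.up ℤ)).obj
    (((EtCoh.push f).mapHomologicalComplex _).obj I)
  haveI : IsIso (K.homologyπ 0) := by
    refine K.isIso_homologyπ (-1) 0 (by simp) ?_
    exact ((EtCoh.pull g).map_isZero ((EtCoh.push f).map_isZero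
      (CochainComplex.isZero_of_isStrictlyGE I 0 (-1) (by omega)))).eq_of_src _ _
  refine Preadditive.mono_of_cancel_zero _ fun {A} z hz => ?_
  have hd : (z ≫ (EtCoh.pull g).map ((EtCoh.push f).map ι0)) ≫ K.d 0 1 = 0 := by
    show _ ≫ (EtCoh.pull g).map ((EtCoh.push f).map (I.d 0 1)) = 0
    rw [Category.assoc, ← Functor.map_comp, ← Functor.map_comp, hι0, Functor.map_zero, Functor.map_zero, comp_zero]
  let c := K.liftCycles (z ≫ (EtCoh.pull g).map ((EtCoh.push f).map ι0)) 1 (CochainComplex.next ℤ 0) hd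
  have hc : c ≫ HomologicalComplex.cyclesMap κ 0 = 0 := by
    rw [← cancel_mono (HomologicalComplex.iCycles _ 0), zero_comp, Category.assoc, HomologicalComplex.cyclesMap_i,
      HomologicalComplex.liftCycles_i_assoc, Category.assoc]
    show z ≫ (EtCoh.pull g).map ((EtCoh.push f).map ι0) ≫ EtCoh.baseChange0 f g f' g' w (I.X 0) = 0
    rw [EtBcKilledLib.bc0_natural f g f' g' w ι0, ← Category.assoc, hz, zero_comp]
  have hc0 : c = 0 := by
    rw [← cancel_mono (K.homologyπ 0), zero_comp, ← cancel_mono (HomologicalComplex.homologyMap κ 0), zero_comp,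
      Category.assoc, HomologicalComplex.homologyπ_naturality, ← Category.assoc, hc, zero_comp]
  rw [← cancel_mono ((EtCoh.pull g).map ((EtCoh.push f).map ι0)), zero_comp]
  refine (K.liftCycles_i _ 1 (CochainComplex.next ℤ 0) hd).symm.trans ?_
  show c ≫ K.iCycles 0 = 0
  rw [hc0, zero_comp]

end EtBcDLib
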