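/-
Descent of the comparison conditions along a surjective morphism: cohomological dévissage.
-/
import Groth.Agent.EtBcKilledLib.Killed
import Groth.Agent.EtBcQLib.Main
import Groth.Agent.S0099

set_option autoImplicit false
set_option linter.all false
set_option backward.isDefEq.respectTransparency false
set_option backward.isDefEq.respectTransparency.types false
set_option synthInstance.maxHeartbeats 400000
set_option maxHeartbeats 1600000

universe u

open CategoryTheory CategoryTheory.Limits AlgebraicGeometry Opposite CategoryTheory.Abelian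
open Groth.Agent EtBcQLib

noncomputable section

namespace EtBcDLib

attribute [local instance] EtSliceLib.pullExact

theorem pfl_push {A B : Scheme.{u}} (f : A ⟶ B) : PreservesFiniteLimits (EtCoh.push f) :=
  haveI : PreservesLimitsOfSize.{0, 0} (EtCoh.push f) := (EtCoh.pullPushAdj f).rightAdjoint_preservesLimits
  PreservesLimitsOfSize.preservesFiniteLimits _

theorem exact_push {A B : Scheme.{u}} (f : A ⟶ B) {U : ShortComplex (EtCoh.Ab A)} (hU : U.ShortExact) :
    (U.map (EtCoh.push f)).Exact := by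
  have hl : ∀ S : ShortComplex (EtCoh.Ab A), S.ShortExact →
      (S.map (EtCoh.push f)).Exact ∧ Mono ((EtCoh.push f).map S.f) :=
    (Functor.preservesFiniteLimits_tfae (EtCoh.push f) |>.out 3 0).1 (pfl_push f)
  exact (hl U hU).1

/-- A sheaf killed by an integer with primes in `L` is `L`-torsion. -/
theorem isLTorsion_of_killed {A : Scheme.{u}} {L : Set ℕ} {m : ℕ} (hm : EtAcyc.PrimesIn L m) {F : EtCoh.Ab A}
    (hF : EtCoh.KilledBy m F) : EtAcyc.IsLTorsion L F :=
  fun U s x => ⟨U, 𝟙 U, m, ⟨x, rfl⟩, hm, hF U (F.obj.map (𝟙 U : U ⟶ U).op s)⟩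

theorem Hpull_dl {A B : Scheme.{u}} (f : A ⟶ B) {F G H : EtCoh.Ab B} {a : F ⟶ G} {b : G ⟶ H} {w : a ≫ b = 0}
    (hS : (ShortComplex.mk a b w).ShortExact)
    {w' : (EtCoh.pull f).map a ≫ (EtCoh.pull f).map b = 0}
    (hS' : (ShortComplex.mk ((EtCoh.pull f).map a) ((EtCoh.pull f).map b) w').ShortExact)
    (n : ℕ) (x : EtCoh.H B H n) :
    EtCore.Hpull f F (n + 1) (dl hS n x) = dl hS' n (EtCore.Hpull f H n x) :=
  haveI : PreservesFiniteColimits (EtCoh.pull f) := EtCore.pull_preservesFiniteColimits f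
  EtAcycLib.Hpull_delta f hS x

theorem shortExact_pull_mk {A B : Scheme.{u}} (f : A ⟶ B) {F G H : EtCoh.Ab B} {a : F ⟶ G} {b : G ⟶ H}
    {w : a ≫ b = 0} (hS : (ShortComplex.mk a b w).ShortExact) :
    (ShortComplex.mk ((EtCoh.pull f).map a) ((EtCoh.pull f).map b)
      (by rw [← Functor.map_comp, w, Functor.map_zero])).ShortExact :=
  haveI : PreservesFiniteColimits (EtCoh.pull f) := EtCore.pull_preservesFiniteColimits f
  hS.map_of_exact (EtCoh.pull f)

theorem shortExact_cokernel {C : Type*} [Category C] [Abelian C] {F G : C} (u : F ⟶ G) [Mono u] :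
    (ShortComplex.mk u (cokernel.π u) (cokernel.condition u)).ShortExact where
  exact := ShortComplex.exact_of_g_is_cokernel _ (cokernelIsCokernel _)
  mono_f := inferInstanceAs (Mono u)
  epi_g := inferInstanceAs (Epi (cokernel.π u))

section Vanish

variable {A B : Scheme.{u}} (f : A ⟶ B)

theorem rho_id_bijective (M : EtCoh.Ab A) :
    Function.Bijective (rho f (𝟙 ((EtCoh.push f).obj M)) 0) :=
  bijective_rho_zero f _

theorem rho_id_pc {M M' : EtCoh.Ab A} (φ : M ⟶ M') (m : ℕ) (x : EtCoh.H B ((EtCoh.push f).obj M) m) :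
    rho f (𝟙 ((EtCoh.push f).obj M')) m (pc ((EtCoh.push f).map φ) m x) =
      pc φ m (rho f (𝟙 ((EtCoh.push f).obj M)) m x) :=
  rho_pc f (𝟙 _) (𝟙 _) ((EtCoh.push f).map φ) φ (by rw [Category.comp_id, Category.id_comp]) m x

/-- Vanishing of the cohomology of a direct image. -/
theorem subsingleton_H_push : ∀ (q : ℕ) (M : EtCoh.Ab A),
    (∀ b : ℕ, b + 1 ≤ q → IsZero ((EtCoh.Rpush f (b + 1)).obj M)) → Subsingleton (EtCoh.H A M (q + 1)) →
    Subsingleton (EtCoh.H B ((EtCoh.push f).obj M) (q + 1)) := by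
  intro q
  induction q with
  | zero =>
    intro M hR hH
    haveI := pfl_push f
    let u := Injective.ι M
    let π := cokernel.π u
    haveI : Mono ((EtCoh.push f).map u) := CategoryTheory.preserves_mono_of_preservesLimit _ _
    have hN := shortExact_cokernel ((EtCoh.push f).map u)
    have hS := shortExact_cokernel u
    let ν : cokernel ((EtCoh.push f).map u) ⟶ (EtCoh.push f).obj (cokernel u) :=
      cokernel.desc _ ((EtCoh.push f).map π) (by rw [← Functor.map_comp, cokernel.condition, Functor.map_zero])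
    haveI : Mono ν := by
      have hex : (ShortComplex.mk ((EtCoh.push f).map u) ((EtCoh.push f).map π)
          (by rw [← Functor.map_comp, cokernel.condition, Functor.map_zero])).Exact :=
        exact_push f hS
      exact hex.mono_cokernelDesc
    haveI : Injective ((EtCoh.push f).obj (Injective.under M)) := (EtCoh.push f).injective_obj _
    refine ⟨fun x y => sub_eq_zero.1 ?_⟩
    generalize x - y = x
    obtain ⟨z, rfl⟩ := exists_of_f_eq_zero hN x
      (@Subsingleton.elim _ (CohLib.subsingleton_ext_injective _ _ 0) _ _)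
    obtain ⟨k', hk'⟩ := exists_of_dl_eq_zero hS (rho f (𝟙 _) 0 (pc ν 0 z)) (@Subsingleton.elim _ hH _ _)
    obtain ⟨k, rfl⟩ := (rho_id_bijective f (Injective.under M)).2 k'
    have h1 : pc ν 0 (pc (cokernel.π ((EtCoh.push f).map u)) 0 k) = pc ν 0 z := by
      rw [pc_comp, cokernel.π_desc]
      exact (rho_id_bijective f (cokernel u)).1 ((rho_id_pc f π 0 k).trans hk')
    rw [← pc_injective_zero ν h1]
    exact dl_g hN k
  | succ q ih =>
    intro M hR hH
    haveI := pfl_push f
    let u := Injective.ι M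
    let π := cokernel.π u
    have hS := shortExact_cokernel u
    let T := EtCechInjLib.derDelta (EtCoh.push f)
    have hJ : ∀ i, IsZero ((T.F (i + 1)).obj (Injective.under M)) := fun i =>
      Functor.isZero_rightDerived_obj_injective_succ (EtCoh.push f) i _
    haveI : Epi ((T.F 0).map π) := (T.exact₃ hS 0).epi_f ((hR 0 (by omega)).eq_of_tgt _ _)
    haveI : Epi ((EtCoh.push f).map π) := by
      haveI : IsIso ((EtCoh.push f).toRightDerivedZero.app (cokernel u)) := inferInstance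
      haveI : IsIso ((EtCoh.push f).toRightDerivedZero.app (Injective.under M)) := inferInstance
      have e : (EtCoh.push f).map π =
          (EtCoh.push f).toRightDerivedZero.app (Injective.under M) ≫ (T.F 0).map π ≫
            inv ((EtCoh.push f).toRightDerivedZero.app (cokernel u)) := by
        erw [← (EtCoh.push f).toRightDerivedZero.naturality_assoc π, IsIso.hom_inv_id, Category.comp_id]
      rw [e]
      infer_instance
    haveI : Mono ((EtCoh.push f).map u) := CategoryTheory.preserves_mono_of_preservesLimit _ _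
    have hP : (ShortComplex.mk ((EtCoh.push f).map u) ((EtCoh.push f).map π)
        (by rw [← Functor.map_comp, cokernel.condition, Functor.map_zero])).ShortExact :=
      { exact := exact_push f hS
        mono_f := inferInstanceAs (Mono ((EtCoh.push f).map u))
        epi_g := inferInstanceAs (Epi ((EtCoh.push f).map π)) }
    have hQH : Subsingleton (EtCoh.H A (cokernel u) (q + 1)) := by
      refine ⟨fun x y => sub_eq_zero.1 ?_⟩
      generalize x - y = x
      obtain ⟨z, rfl⟩ := exists_of_dl_eq_zero hS x (@Subsingleton.elim _ hH _ _)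
      rw [@Subsingleton.elim _ (CohLib.subsingleton_ext_injective _ (Injective.under M) q) z 0, map_zero]
    have hQR : ∀ b : ℕ, b + 1 ≤ q → IsZero ((EtCoh.Rpush f (b + 1)).obj (cokernel u)) := fun b hb => by
      haveI : Mono (T.δ hS (b + 1)) := (T.exact₃ hS (b + 1)).mono_g ((hJ b).eq_of_src _ _)
      exact IsZero.of_mono (T.δ hS (b + 1)) (hR (b + 1) (by omega))
    haveI : Injective ((EtCoh.push f).obj (Injective.under M)) := (EtCoh.push f).injective_obj _
    refine ⟨fun x y => sub_eq_zero.1 ?_⟩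
    generalize x - y = x
    obtain ⟨z, rfl⟩ := exists_of_f_eq_zero hP x
      (@Subsingleton.elim _ (CohLib.subsingleton_ext_injective _ _ (q + 1)) _ _)
    rw [@Subsingleton.elim _ (ih (cokernel u) hQR hQH) z 0, map_zero]

end Vanish

variable {X Y Xb Yb : Scheme.{u}} (p : Xb ⟶ X) (h : Y ⟶ X) (pY : Yb ⟶ Y) (hb : Yb ⟶ Xb) (w : hb ≫ p = pY ≫ h)

/-- Comparison in degree zero for a direct image. -/
theorem bijective_Hpull_push_zero (Fb : EtCoh.Ab Xb) (hm : Mono (EtCoh.baseChange0 p h pY hb w Fb))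
    (hF : Function.Bijective (EtCore.Hpull hb Fb 0)) :
    Function.Bijective (EtCore.Hpull h ((EtCoh.push p).obj Fb) 0) := by
  let M := (EtCoh.pull hb).obj Fb
  let α : (EtCoh.push p).obj Fb ⟶ (EtCoh.push h).obj ((EtCoh.push pY).obj M) :=
    (EtCoh.push p).map ((EtCoh.pullPushAdj hb).unit.app Fb) ≫ (sqα p h pY hb w).app M
  let δ : (EtCoh.push p).obj Fb ⟶ (EtCoh.push (hb ≫ p)).obj M :=
    (EtCoh.push p).map ((EtCoh.pullPushAdj hb).unit.app Fb) ≫ (EtCoh.pushComp p hb).hom.app M
  have h1 : 𝟙 ((EtCoh.push p).obj Fb) ≫ (EtCoh.push p).map ((EtCoh.pullPushAdj hb).unit.app Fb) =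
      δ ≫ (DescSecLib.etPc hb p (hb ≫ p) rfl).app M := by
    rw [← EtSliceLib.pushComp_inv_eq p hb]
    simp only [δ, Category.assoc, Iso.hom_inv_id_app]
    exact (Category.id_comp _).trans (Category.comp_id _).symm
  have h2 : α ≫ (EtCoh.push h).map (𝟙 ((EtCoh.push pY).obj M)) =
      δ ≫ (DescSecLib.etPc pY h (hb ≫ p) w.symm).app M := by
    rw [← EtContLib.pushCongr_pc pY h (hb ≫ p) w, ← EtSliceLib.pushComp_inv_eq h pY]
    simp only [δ, α, sqα, Iso.trans_hom, Iso.symm_hom, NatTrans.comp_app, Category.assoc,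
      CategoryTheory.Functor.map_id]
    erw [Category.comp_id]
  have e : ∀ x, rho pY (𝟙 ((EtCoh.push pY).obj M)) 0 (rho h α 0 x) =
      rho hb ((EtCoh.pullPushAdj hb).unit.app Fb) 0 (rho p (𝟙 ((EtCoh.push p).obj Fb)) 0 x) := fun x =>
    (EtContLib.HpullThen_comp pY h (hb ≫ p) w.symm _ _ _ h2 0 x).trans
      (EtContLib.HpullThen_comp hb p (hb ≫ p) rfl _ _ _ h1 0 x).symm
  have hu : (rho hb ((EtCoh.pullPushAdj hb).unit.app Fb) 0 : _ → _) = EtCore.Hpull hb Fb 0 := funext fun x => by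
    show pc (EtContLib.adjL hb ((EtCoh.pullPushAdj hb).unit.app Fb)) 0 (EtCore.Hpull hb Fb 0 x) = _
    rw [show EtContLib.adjL hb ((EtCoh.pullPushAdj hb).unit.app Fb) = 𝟙 _ from
      (Equiv.symm_apply_eq _).2 (((Category.comp_id _).symm.trans
        (congrArg (((EtCoh.pullPushAdj hb).unit.app Fb) ≫ ·) ((EtCoh.push hb).map_id _).symm)).trans
        (Adjunction.homEquiv_unit _ _ _ _).symm)]
    exact Ext.comp_mk₀_id _
  have hb1 : Function.Bijective (rho h α 0) := by
    refine (Function.Bijective.of_comp_iff' (rho_id_bijective pY M) _).1 ?_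
    rw [show (rho pY (𝟙 ((EtCoh.push pY).obj M)) 0 : _ → _) ∘ rho h α 0 =
      (rho hb ((EtCoh.pullPushAdj hb).unit.app Fb) 0 : _ → _) ∘ rho p (𝟙 ((EtCoh.push p).obj Fb)) 0 from funext e, hu]
    exact hF.comp (rho_id_bijective p Fb)
  have hbc : EtContLib.adjL h α = EtCoh.baseChange0 p h pY hb w Fb := rfl
  haveI : Mono (EtContLib.adjL h α) := hbc ▸ hm
  have hi := pc_injective_zero (EtContLib.adjL h α)
  exact ⟨fun a b hab => hb1.1 (congrArg (pc (EtContLib.adjL h α) 0) hab), fun y => by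
    obtain ⟨x, hx⟩ := hb1.2 (pc (EtContLib.adjL h α) 0 y)
    exact ⟨x, hi hx⟩⟩

section Devissage

variable {n m : ℕ}

/-- The five lemma along effacing embeddings. -/
theorem rng_of_efface
    (hE : ∀ F : EtCoh.Ab X, EtCoh.KilledBy m F → ∃ (G : EtCoh.Ab X) (u : F ⟶ G), Mono u ∧ EtCoh.KilledBy m G ∧
      Function.Bijective (EtCore.Hpull h G 0) ∧ (∀ q, Subsingleton (EtCoh.H X G (q + 1))) ∧
      ∀ q, q + 1 ≤ n → Subsingleton (EtCoh.H Y ((EtCoh.pull h).obj G) (q + 1))) :
    ∀ (q : ℕ) (F : EtCoh.Ab X), EtCoh.KilledBy m F →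
      (q ≤ n → Function.Bijective (EtCore.Hpull h F q)) ∧ (q ≤ n + 1 → Function.Injective (EtCore.Hpull h F q)) := by
  intro q
  induction q with
  | zero =>
    have inj : ∀ F : EtCoh.Ab X, EtCoh.KilledBy m F → Function.Injective (EtCore.Hpull h F 0) := fun F hF => by
      obtain ⟨G, u, hu, hG, h0, -, -⟩ := hE F hF
      refine (injective_iff_map_eq_zero _).2 fun x hx => ?_
      refine pc_injective_zero u (h0.1 ?_)
      rw [map_zero, map_zero, Hpull_pc, hx, map_zero]
    refine fun F hF => ⟨fun _ => ⟨inj F hF, fun y => ?_⟩, fun _ => inj F hF⟩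
    obtain ⟨G, u, hu, hG, h0, -, -⟩ := hE F hF
    have hS := shortExact_cokernel u
    have hS' := shortExact_pull_mk h hS
    obtain ⟨g, hg⟩ := h0.2 (pc ((EtCoh.pull h).map u) 0 y)
    have h1 : pc (cokernel.π u) 0 g = 0 := by
      refine inj _ (EtBcKilledLib.killed_cokernel u hG) ?_
      rw [map_zero, Hpull_pc, hg]
      exact g_f (by rw [← Functor.map_comp, cokernel.condition, Functor.map_zero]) y
    obtain ⟨x, rfl⟩ := exists_of_g_eq_zero hS g h1
    refine ⟨x, injective_f_zero hS' ?_⟩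
    rw [← Hpull_pc, hg]
  | succ q ih =>
    intro F hF
    obtain ⟨G, u, hu, hG, h0, hX, hY⟩ := hE F hF
    have hS := shortExact_cokernel u
    have hS' := shortExact_pull_mk h hS
    have hQ := EtBcKilledLib.killed_cokernel u hG
    have inj : q + 1 ≤ n + 1 → Function.Injective (EtCore.Hpull h F (q + 1)) := fun hq => by
      refine (injective_iff_map_eq_zero _).2 fun x hx => ?_
      obtain ⟨z, rfl⟩ := exists_of_f_eq_zero hS x (@Subsingleton.elim _ (hX q) _ _)
      rw [Hpull_dl h hS hS'] at hx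
      obtain ⟨g', hg'⟩ := exists_of_dl_eq_zero hS' _ hx
      obtain ⟨g, rfl⟩ := ((ih G hG).1 (by omega)).2 g'
      have hz : pc (cokernel.π u) q g = z := ((ih _ hQ).2 (by omega)) (by rw [Hpull_pc, hg'])
      rw [← hz]
      exact dl_g hS g
    refine ⟨fun hq => ⟨inj (by omega), fun y => ?_⟩, inj⟩
    obtain ⟨c, rfl⟩ := exists_of_f_eq_zero hS' y (@Subsingleton.elim _ (hY q hq) _ _)
    obtain ⟨z, rfl⟩ := ((ih _ hQ).1 (by omega)).2 c
    exact ⟨dl hS q z, Hpull_dl h hS hS' q z⟩

end Devissage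

section Colim

variable {C : Type*} [Category C] {J : Type u} [SmallCategory J] [IsFiltered J]
  (T : C ⥤ AddCommGrpCat.{u + 1}) [PreservesColimitsOfShape J T] {D : J ⥤ C} {c : Cocone D} (hc : IsColimit c)

include hc

theorem exists_rep_colim (y : T.obj c.pt) : ∃ (j : J) (z : T.obj (D.obj j)), T.map (c.ι.app j) z = y :=
  Concrete.isColimit_exists_rep (D ⋙ T) (isColimitOfPreserves T hc) y

theorem exists_zero_colim (j : J) (z : T.obj (D.obj j)) (hz : T.map (c.ι.app j) z = 0) :
    ∃ (k : J) (a : j ⟶ k), T.map (D.map a) z = 0 := by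
  obtain ⟨k, a, b, hab⟩ := (Concrete.isColimit_rep_eq_iff_exists (F := D ⋙ T) (isColimitOfPreserves T hc)
    (i := j) (j := j) z 0).1 (hz.trans (map_zero _).symm)
  exact ⟨k, a, hab.trans (map_zero _)⟩

end Colim

theorem HF_map_eq_pc {A : Scheme.{u}} {F G : EtCoh.Ab A} (φ : F ⟶ G) (q : ℕ) (x : EtCoh.H A F q) :
    (EtCoh.HF A q).map φ x = pc φ q x := rfl

/-- The comparison condition passes to filtered unions. -/
theorem compN_of_killed [CompactSpace X] [QuasiSeparatedSpace X] [CompactSpace Y] [QuasiSeparatedSpace Y]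
    (L : Set ℕ) (n : ℕ)
    (H : ∀ m : ℕ, EtAcyc.PrimesIn L m → ∀ F : EtCoh.Ab X, EtCoh.KilledBy m F → ∀ q,
      (q ≤ n → Function.Bijective (EtCore.Hpull h F q)) ∧ (q ≤ n + 1 → Function.Injective (EtCore.Hpull h F q))) :
    EtAcyc.CompN h L n := by
  intro F hF inst
  obtain ⟨J, _, _, D, c, ⟨hc⟩, hpt, hk⟩ := Groth.Agent.EtShLib.exists_ok_colimit
    (Groth.Agent.EtShLib.okSet_primesIn L) ((Groth.Agent.EtShLib.isLTorsion_iff_torsionBy L F).1 hF)
  subst hpt
  have hk' : ∀ j q, (q ≤ n → Function.Bijective (EtCore.Hpull h (D.obj j) q)) ∧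
      (q ≤ n + 1 → Function.Injective (EtCore.Hpull h (D.obj j) q)) := fun j q => by
    obtain ⟨m, hm, hkill⟩ := hk j
    exact H m hm _ ((EtBcKilledLib.killed_iff _).2 hkill) q
  haveI : PreservesColimitsOfShape J (EtCoh.pull h) :=
    haveI : PreservesColimitsOfSize.{u, u} (EtCoh.pull h) := (EtCoh.pullPushAdj h).leftAdjoint_preservesColimits
    inferInstance
  have repX : ∀ q (x : EtCoh.H X c.pt q), ∃ (j : J) (z : EtCoh.H X (D.obj j) q), pc (c.ι.app j) q z = x := fun q x => by
    haveI := Groth.Agent.S0099.result X q J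
    obtain ⟨j, z, hz⟩ := exists_rep_colim (EtCoh.HF X q) hc x
    exact ⟨j, z, (HF_map_eq_pc _ q z).symm.trans hz⟩
  have repY : ∀ q (y : EtCoh.H Y ((EtCoh.pull h).obj c.pt) q), ∃ (j : J) (z : EtCoh.H Y ((EtCoh.pull h).obj (D.obj j)) q),
      pc ((EtCoh.pull h).map (c.ι.app j)) q z = y := fun q y => by
    haveI := Groth.Agent.S0099.result Y q J
    obtain ⟨j, z, hz⟩ := exists_rep_colim (EtCoh.HF Y q) (isColimitOfPreserves (EtCoh.pull h) hc) y
    exact ⟨j, z, (HF_map_eq_pc _ q z).symm.trans hz⟩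
  have zeroY : ∀ q (j : J) (z : EtCoh.H Y ((EtCoh.pull h).obj (D.obj j)) q),
      pc ((EtCoh.pull h).map (c.ι.app j)) q z = 0 → ∃ (k : J) (a : j ⟶ k), pc ((EtCoh.pull h).map (D.map a)) q z = 0 :=
    fun q j z hz => by
    haveI := Groth.Agent.S0099.result Y q J
    obtain ⟨k, a, ha⟩ := exists_zero_colim (EtCoh.HF Y q) (isColimitOfPreserves (EtCoh.pull h) hc) j z
      ((HF_map_eq_pc _ q z).trans hz)
    exact ⟨k, a, (HF_map_eq_pc _ q z).symm.trans ha⟩
  have inj : ∀ q, q ≤ n + 1 → Function.Injective (EtCore.Hpull h c.pt q) := fun q hq => by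
    refine (injective_iff_map_eq_zero _).2 fun x hx => ?_
    obtain ⟨j, z, rfl⟩ := repX q x
    have hx' := (Hpull_pc h (c.ι.app j) q z).symm.trans hx
    obtain ⟨k, a, ha⟩ := zeroY q j _ hx'
    replace ha := (Hpull_pc h (D.map a) q z).trans ha
    have h0 : pc (D.map a) q z = 0 := ((hk' k q).2 hq) (ha.trans (map_zero _).symm)
    rw [← c.w a, ← pc_comp, h0, map_zero]
  refine ⟨fun q hq => ⟨inj q (by omega), fun y => ?_⟩, inj (n + 1) le_rfl⟩
  obtain ⟨j, z, rfl⟩ := repY q y
  obtain ⟨z', rfl⟩ := ((hk' j q).1 hq).2 z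
  exact ⟨pc (c.ι.app j) q z', Hpull_pc h (c.ι.app j) q z'⟩

/-- The embeddings used in the dévissage. -/
theorem exists_efface_push {L : Set ℕ} {n m : ℕ} (hn : 1 ≤ n) (hp : Function.Surjective p.base)
    (hhb : EtAcyc.CompN hb L n)
    (hmono : ∀ Fb : EtCoh.Ab Xb, EtAcyc.IsLTorsion L Fb → Mono (EtCoh.baseChange0 p h pY hb w Fb))
    (hiso : ∀ Fb : EtCoh.Ab Xb, EtAcyc.IsLTorsion L Fb → ∀ i, i + 1 ≤ n →
      Nonempty ((EtCoh.pull h).obj ((EtCoh.Rpush p i).obj Fb) ≅ (EtCoh.Rpush pY i).obj ((EtCoh.pull hb).obj Fb)))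
    (hm : EtAcyc.PrimesIn L m) (F : EtCoh.Ab X) (hF : EtCoh.KilledBy m F) :
    ∃ (G : EtCoh.Ab X) (u : F ⟶ G), Mono u ∧ EtCoh.KilledBy m G ∧
      Function.Bijective (EtCore.Hpull h G 0) ∧ (∀ q, Subsingleton (EtCoh.H X G (q + 1))) ∧
      ∀ q, q + 1 ≤ n → Subsingleton (EtCoh.H Y ((EtCoh.pull h).obj G) (q + 1)) := by
  obtain ⟨K, u, hu, hK, hR, hH⟩ := EtBcKilledLib.exists_embed' hm.1 ((EtCoh.pull p).obj F)
    (EtBcKilledLib.killed_obj (EtCoh.pull p) hF)
  have hKL := isLTorsion_of_killed hm hK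
  have hHb := hhb K hKL
  haveI := mono_unit p hp F
  haveI := pfl_push p
  haveI : Mono ((EtCoh.push p).map u) := CategoryTheory.preserves_mono_of_preservesLimit _ _
  refine ⟨(EtCoh.push p).obj K, (EtCoh.pullPushAdj p).unit.app F ≫ (EtCoh.push p).map u, inferInstance,
    EtBcKilledLib.killed_obj (EtCoh.push p) hK, ?_, ?_, ?_⟩
  · exact bijective_Hpull_push_zero p h pY hb w K (hmono K hKL) (hHb.1 0 (Nat.zero_le n))
  · exact fun q => subsingleton_H_push p q K (fun b _ => hR p b) (hH q)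
  · intro q hq
    let M := (EtCoh.pull hb).obj K
    have h1 : Subsingleton (EtCoh.H Y ((EtCoh.push pY).obj M) (q + 1)) := by
      refine subsingleton_H_push pY q M (fun b hb' => ?_) ?_
      · obtain ⟨e⟩ := hiso K hKL (b + 1) (by omega)
        exact ((EtCoh.pull h).map_isZero (hR p b)).of_iso e.symm
      · exact ((hHb.1 (q + 1) hq).2.subsingleton)
    obtain ⟨e⟩ := hiso K hKL 0 (by omega)
    let e' : (EtCoh.pull h).obj ((EtCoh.push p).obj K) ≅ (EtCoh.push pY).obj M :=
      (EtCoh.pull h).mapIso ((EtCoh.push p).rightDerivedZeroIsoSelf.app K).symm ≪≫ e ≪≫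
        (EtCoh.push pY).rightDerivedZeroIsoSelf.app M
    exact (pc_bijective e'.hom (q + 1)).1.subsingleton

/-- The comparison condition descends along a surjective morphism. -/
theorem compN_of_descent [CompactSpace X] [QuasiSeparatedSpace X] [CompactSpace Y] [QuasiSeparatedSpace Y]
    {L : Set ℕ} {n : ℕ} (hn : 1 ≤ n) (hp : Function.Surjective p.base) (hhb : EtAcyc.CompN hb L n)
    (hmono : ∀ Fb : EtCoh.Ab Xb, EtAcyc.IsLTorsion L Fb → Mono (EtCoh.baseChange0 p h pY hb w Fb))
    (hiso : ∀ Fb : EtCoh.Ab Xb, EtAcyc.IsLTorsion L Fb → ∀ i, i + 1 ≤ n →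
      Nonempty ((EtCoh.pull h).obj ((EtCoh.Rpush p i).obj Fb) ≅ (EtCoh.Rpush pY i).obj ((EtCoh.pull hb).obj Fb))) :
    EtAcyc.CompN h L n :=
  compN_of_killed h L n fun m hm F hF q =>
    rng_of_efface h (fun F' hF' => exists_efface_push p h pY hb w hn hp hhb hmono hiso hm F' hF') q F hF

end EtBcDLib
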